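import Cfsg.Agent.H805.EPX.ThRow
import Cfsg.Agent.H956.EPX.FiN
import Cfsg.Agent.H406.CS.E6Four

/-!
# S5745: the row `Fi₂₂` in `E₆(4)` (counts helper956, class sizes helper406; glue helper805)
-/

set_option autoImplicit false

namespace Cfsg.Agent.H805.EPX

open Subgroup Cfsg Cfsg.Agent.H284 Cfsg.Agent.H209.EPX Cfsg.Agent.H226.EX Cfsg.Agent.H742.EX

variable {G : Type} [Group G] [Finite G] {H N : Subgroup G} {T : Type} [Group T] {e : N ≃* (Fin 1 → T)}

/-- the elements of odd prime order of `H` are those of `N` -/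
theorem el_le_T (h : EPS H N e) (hT : IsSporadicGroup T) (h4 : Nat.card T % 4 = 0) {r : ℕ} (hr : r.Prime)
    (hr2 : r ≠ 2) : (el H r).card ≤ {g : T | orderOf g = r}.ncard := by
  classical
  haveI := finite_T h
  let f : T →* G := N.subtype.comp ((e.symm.toMonoidHom).comp (MulEquiv.funUnique (Fin 1) T).symm.toMonoidHom)
  have hf : Function.Injective f :=
    (Subtype.val_injective.comp e.symm.injective).comp (MulEquiv.funUnique (Fin 1) T).symm.injective
  have hsub : (el H r : Set G) ⊆ f '' {g : T | orderOf g = r} := by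
    intro x hx
    rw [Finset.mem_coe, mem_el] at hx
    have hxN : x ∈ N := by
      refine H686.EX.mem_of_pow h.toNIn hr ?_ hx.1 (by rw [← hx.2]; exact pow_orderOf_eq_one x)
      rcases relIndex_le h hT h4 with h5 | h5
      · rw [h5]; exact fun hd => hr.one_lt.ne' (Nat.dvd_one.1 hd)
      · rw [h5]; exact fun hd => hr2 ((Nat.prime_dvd_prime_iff_eq hr Nat.prime_two).1 hd)
    have h6 : f ((MulEquiv.funUnique (Fin 1) T) (e ⟨x, hxN⟩)) = x := by
      show ((e.symm ((MulEquiv.funUnique (Fin 1) T).symm ((MulEquiv.funUnique (Fin 1) T) (e ⟨x, hxN⟩))) : N) : G) = x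
      rw [MulEquiv.symm_apply_apply, MulEquiv.symm_apply_apply]
    refine ⟨_, ?_, h6⟩
    show orderOf ((MulEquiv.funUnique (Fin 1) T) (e ⟨x, hxN⟩)) = r
    rw [← orderOf_injective f hf, h6, hx.2]
  have h5 := Set.ncard_le_ncard hsub (Set.toFinite _)
  rw [Set.ncard_coe_finset] at h5
  exact h5.trans (Set.ncard_image_le (Set.toFinite _))

theorem e6_4_Fi22 (F : Type) [Field F] [Fintype F] [IsSimpleGroup ↥(Lie.chevE6.group F)] (hF : Fintype.card F = 4) :
    NoRow (fun T _ => Spor.IsoFi22 T) ↥(Lie.chevE6.group F) := by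
  intro H N T _ e h hT
  have hs : IsSporadicGroup T := by unfold IsSporadicGroup; tauto
  have hc := NotCT.Orders.fi22 hT
  have hG := OrdDiv.table.{0}.e6 F 4 hF
  rw [show Nat.gcd 3 (4 - 1) = 3 by decide] at hG
  haveI : Finite ↥(Lie.chevE6.group F) := Nat.finite_of_card_ne_zero (by
    intro h0
    rw [h0] at hG
    norm_num at hG)
  have h4 : Nat.card T % 4 = 0 := by rw [hc]
  have hpf : (Nat.card T).primeFactors.erase 2 ⊆ ({3, 5, 7, 11, 13} : Finset ℕ) := by
    intro r hr
    rw [Finset.mem_erase, Nat.mem_primeFactors, hc] at hr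
    obtain ⟨h1, h2, h3, -⟩ := hr
    have h5 : r ∣ 2 ^ 17 * 3 ^ 9 * 5 ^ 2 * 7 * 11 * 13 := h3.trans (by norm_num)
    simp only [h2.dvd_mul] at h5
    simp only [Finset.mem_insert, Finset.mem_singleton]
    rcases h5 with ((((h5 | h5) | h5) | h5) | h5) | h5
    · exact absurd ((Nat.prime_dvd_prime_iff_eq h2 Nat.prime_two).1 (h2.dvd_of_dvd_pow h5)) h1
    · left; exact (Nat.prime_dvd_prime_iff_eq h2 Nat.prime_three).1 (h2.dvd_of_dvd_pow h5)
    · right; left; exact (Nat.prime_dvd_prime_iff_eq h2 Nat.prime_five).1 (h2.dvd_of_dvd_pow h5)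
    · right; right; left; exact (Nat.prime_dvd_prime_iff_eq h2 (by norm_num)).1 h5
    · right; right; right; left; exact (Nat.prime_dvd_prime_iff_eq h2 (by norm_num)).1 h5
    · right; right; right; right; exact (Nat.prime_dvd_prime_iff_eq h2 (by norm_num)).1 h5
  have hpr : ∀ r ∈ ({3, 5, 7, 11, 13} : Finset ℕ), r.Prime ∧ r ≠ 2 ∧ r ∈ [2, 3, 5, 7, 11, 13] := by
    intro r hr
    simp only [Finset.mem_insert, Finset.mem_singleton] at hr
    rcases hr with rfl | rfl | rfl | rfl | rfl <;> norm_num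
  have hidx : 3 ≤ H.index := by
    have h1 := Subgroup.card_mul_index H
    have h2 : Nat.card H ≤ 2 * 64561751654400 := by
      rcases card_H h hs h4 with h3 | h3 <;> omega
    by_contra hlt
    push Not at hlt
    have h3 : 3 * (Nat.card H * H.index) ≤ 3 * (2 * 64561751654400 * 3) :=
      Nat.mul_le_mul_left _ (Nat.mul_le_mul h2 hlt.le)
    rw [h1, hG] at h3
    norm_num at h3
  refine H686.EX.dead_of_pi hidx ({3, 5, 7, 11, 13} : Finset ℕ) (fun r hr => (hpr r hr).1) ?_
    H956.EPX.FiN.nr (fun r => if r = 3 ∨ r = 5 then 2 ^ 76 else 2 ^ 88) ?_ ?_ ?_ ?_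
  · intro g hg
    obtain ⟨r, hr, hrd⟩ := spor_hM h hs g hg
    exact ⟨r, hpf (primes_le h hs h4 hr), hrd⟩
  · intro r hr
    obtain ⟨f⟩ := hT
    exact (el_le_T h hs h4 (hpr r hr).1 (hpr r hr).2.1).trans (H956.EPX.FiN.card_le (hpr r hr).2.2 f)
  · intro r _
    split_ifs <;> positivity
  · intro r hr x _ hxr
    obtain ⟨k3, k5, k7, k11, k13⟩ := H406.CS.E6.cG_ge hF x
    simp only [Finset.mem_insert, Finset.mem_singleton] at hr
    rcases hr with rfl | rfl | rfl | rfl | rfl
    · exact k3 hxr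
    · exact k5 hxr
    · exact k7 hxr
    · exact k11 hxr
    · exact k13 hxr
  · rw [Finset.sum_insert (by decide), Finset.sum_insert (by decide), Finset.sum_insert (by decide),
      Finset.sum_insert (by decide), Finset.sum_singleton]
    norm_num [H956.EPX.FiN.nr]

end Cfsg.Agent.H805.EPX
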