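import Cfsg.Agent.H805.EPX.Data
import Cfsg.Agent.H805.EPX.Sieve2
import Cfsg.Agent.H805.EPX.Rows
import Cfsg.Agent.OrdDiv.Table

/-!
# S5745, sporadic socles in the family e8 (helper805)
-/

set_option autoImplicit false
set_option maxHeartbeats 4000000

namespace Cfsg.Agent.H805.EPX

open Subgroup Cfsg Cfsg.Agent.H284 Cfsg.Agent.H209.EPX Cfsg.Agent.H59.EP Cfsg.Agent.H419.EP Cfsg.Agent.H226.EX
  Cfsg.Agent.H542.EPX

theorem c_e8_m11 : chk .e8 7920 (2 ^ 49) [] 1 = true := by decide +kernel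

theorem d_e8_m11 : 3 * 2 ^ 49 < nm .e8 (128 * 1) := by decide +kernel

theorem c_e8_m12 : chk .e8 95040 (2 ^ 65) [] 1 = true := by decide +kernel

theorem d_e8_m12 : 3 * 2 ^ 65 < nm .e8 (128 * 1) := by decide +kernel

theorem c_e8_m22 : chk .e8 443520 (2 ^ 75) [] 1 = true := by decide +kernel

theorem d_e8_m22 : 3 * 2 ^ 75 < nm .e8 (128 * 1) := by decide +kernel

theorem c_e8_m23 : chk .e8 10200960 (2 ^ 97) [] 1 = true := by decide +kernel

theorem d_e8_m23 : 3 * 2 ^ 97 < nm .e8 (128 * 1) := by decide +kernel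

theorem c_e8_m24 : chk .e8 244823040 (2 ^ 120) [] 1 = true := by decide +kernel

theorem d_e8_m24 : 3 * 2 ^ 120 < nm .e8 (128 * 1) := by decide +kernel

theorem c_e8_j1 : chk .e8 175560 (2 ^ 68) [] 1 = true := by decide +kernel

theorem d_e8_j1 : 3 * 2 ^ 68 < nm .e8 (128 * 1) := by decide +kernel

theorem c_e8_j2 : chk .e8 604800 (2 ^ 77) [] 1 = true := by decide +kernel

theorem d_e8_j2 : 3 * 2 ^ 77 < nm .e8 (128 * 1) := by decide +kernel

theorem c_e8_j3 : chk .e8 50232960 (2 ^ 108) [] 1 = true := by decide +kernel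

theorem d_e8_j3 : 3 * 2 ^ 108 < nm .e8 (128 * 1) := by decide +kernel

theorem c_e8_j4 : chk .e8 86775571046077562880 (2 ^ 322) [] 1 = true := by decide +kernel

theorem d_e8_j4 : 3 * 2 ^ 322 < nm .e8 (128 * 1) := by decide +kernel

theorem c_e8_co1 : chk .e8 4157776806543360000 (2 ^ 309) [] 1 = true := by decide +kernel

theorem d_e8_co1 : 3 * 2 ^ 309 < nm .e8 (128 * 1) := by decide +kernel

theorem c_e8_co2 : chk .e8 42305421312000 (2 ^ 228) [] 1 = true := by decide +kernel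

theorem d_e8_co2 : 3 * 2 ^ 228 < nm .e8 (128 * 1) := by decide +kernel

theorem c_e8_co3 : chk .e8 495766656000 (2 ^ 175) [] 1 = true := by decide +kernel

theorem d_e8_co3 : 3 * 2 ^ 175 < nm .e8 (128 * 1) := by decide +kernel

theorem c_e8_mcl : chk .e8 898128000 (2 ^ 129) [] 1 = true := by decide +kernel

theorem d_e8_mcl : 3 * 2 ^ 129 < nm .e8 (128 * 1) := by decide +kernel

theorem c_e8_hs : chk .e8 44352000 (2 ^ 107) [] 1 = true := by decide +kernel

theorem d_e8_hs : 3 * 2 ^ 107 < nm .e8 (128 * 1) := by decide +kernel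

theorem c_e8_suz : chk .e8 448345497600 (2 ^ 174) [] 1 = true := by decide +kernel

theorem d_e8_suz : 3 * 2 ^ 174 < nm .e8 (128 * 1) := by decide +kernel

theorem c_e8_he : chk .e8 4030387200 (2 ^ 140) [] 1 = true := by decide +kernel

theorem d_e8_he : 3 * 2 ^ 140 < nm .e8 (128 * 1) := by decide +kernel

theorem c_e8_ru : chk .e8 145926144000 (2 ^ 170) [] 1 = true := by decide +kernel

theorem d_e8_ru : 3 * 2 ^ 170 < nm .e8 (128 * 1) := by decide +kernel

theorem c_e8_on : chk .e8 460815505920 (2 ^ 174) [] 1 = true := by decide +kernel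

theorem d_e8_on : 3 * 2 ^ 174 < nm .e8 (128 * 1) := by decide +kernel

theorem c_e8_ly : chk .e8 51765179004000000 (2 ^ 258) [] 1 = true := by decide +kernel

theorem d_e8_ly : 3 * 2 ^ 258 < nm .e8 (128 * 1) := by decide +kernel

theorem c_e8_fi22 : chk .e8 64561751654400 (2 ^ 221) [] 1 = true := by decide +kernel

theorem d_e8_fi22 : 3 * 2 ^ 221 < nm .e8 (128 * 1) := by decide +kernel

theorem c_e8_fi23 : chk .e8 4089470473293004800 (2 ^ 289) [] 1 = true := by decide +kernel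

theorem d_e8_fi23 : 3 * 2 ^ 289 < nm .e8 (128 * 1) := by decide +kernel

theorem c_e8_fi24 : chk .e8 1255205709190661721292800 (2 ^ 381) [] 1 = true := by decide +kernel

theorem d_e8_fi24 : 3 * 2 ^ 381 < nm .e8 (128 * 1) := by decide +kernel

theorem c_e8_hn : chk .e8 273030912000000 (2 ^ 220) [] 1 = true := by decide +kernel

theorem d_e8_hn : 3 * 2 ^ 220 < nm .e8 (128 * 1) := by decide +kernel

theorem c_e8_th : chk .e8 90745943887872000 (2 ^ 262) [2] 1 = true := by decide +kernel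

theorem d_e8_th : 3 * 2 ^ 262 < nm .e8 (128 * 1) := by decide +kernel

theorem c_e8_b : chk .e8 4154781481226426191177580544000000 (2 ^ 778) [] 1 = true := by decide +kernel

theorem d_e8_b : 3 * 2 ^ 778 < nm .e8 (128 * 1) := by decide +kernel

theorem c_e8_m : chk .e8 808017424794512875886459904961710757005754368000000000 (2 ^ 1092) [] 1 = true := by decide +kernel

theorem d_e8_m : 3 * 2 ^ 1092 < nm .e8 (128 * 1) := by decide +kernel

/-- the survivors of the sieve, for any group of the order of the family -/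
theorem main_e8 (hg : TwoGen.{0}) {G : Type} [Group G] [Finite G] [IsSimpleGroup G] {H N : Subgroup G} {T : Type}
    [Group T] {e : N ≃* (Fin 1 → T)} (h : EPS H N e) (hT : IsSporadicGroup T) {q : ℕ} (hq : IsPrimePow q)
    (hC : dn .e8 q * Nat.card G = nm .e8 q) : (q = 2 ∧ Spor.IsoTh T) := by
  rcases hT with h1 | h1 | h1 | h1 | h1 | h1 | h1 | h1 | h1 | h1 | h1 | h1 | h1 | h1 | h1 | h1 | h1 | h1 | h1 | h1 | h1 | h1 | h1 | h1 | h1 | h1
  · obtain ⟨hB, hd⟩ := le_m11 hg h h1
    have h2 := surv 1 c_e8_m11 d_e8_m11 (by norm_num) hq hC hd hB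
    exact absurd h2 List.not_mem_nil
  · obtain ⟨hB, hd⟩ := le_m12 hg h h1
    have h2 := surv 1 c_e8_m12 d_e8_m12 (by norm_num) hq hC hd hB
    exact absurd h2 List.not_mem_nil
  · obtain ⟨hB, hd⟩ := le_m22 hg h h1
    have h2 := surv 1 c_e8_m22 d_e8_m22 (by norm_num) hq hC hd hB
    exact absurd h2 List.not_mem_nil
  · obtain ⟨hB, hd⟩ := le_m23 hg h h1
    have h2 := surv 1 c_e8_m23 d_e8_m23 (by norm_num) hq hC hd hB
    exact absurd h2 List.not_mem_nil
  · obtain ⟨hB, hd⟩ := le_m24 hg h h1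
    have h2 := surv 1 c_e8_m24 d_e8_m24 (by norm_num) hq hC hd hB
    exact absurd h2 List.not_mem_nil
  · obtain ⟨hB, hd⟩ := le_j1 hg h h1
    have h2 := surv 1 c_e8_j1 d_e8_j1 (by norm_num) hq hC hd hB
    exact absurd h2 List.not_mem_nil
  · obtain ⟨hB, hd⟩ := le_j2 hg h h1
    have h2 := surv 1 c_e8_j2 d_e8_j2 (by norm_num) hq hC hd hB
    exact absurd h2 List.not_mem_nil
  · obtain ⟨hB, hd⟩ := le_j3 hg h h1
    have h2 := surv 1 c_e8_j3 d_e8_j3 (by norm_num) hq hC hd hB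
    exact absurd h2 List.not_mem_nil
  · obtain ⟨hB, hd⟩ := le_j4 hg h h1
    have h2 := surv 1 c_e8_j4 d_e8_j4 (by norm_num) hq hC hd hB
    exact absurd h2 List.not_mem_nil
  · obtain ⟨hB, hd⟩ := le_co1 hg h h1
    have h2 := surv 1 c_e8_co1 d_e8_co1 (by norm_num) hq hC hd hB
    exact absurd h2 List.not_mem_nil
  · obtain ⟨hB, hd⟩ := le_co2 hg h h1
    have h2 := surv 1 c_e8_co2 d_e8_co2 (by norm_num) hq hC hd hB
    exact absurd h2 List.not_mem_nil
  · obtain ⟨hB, hd⟩ := le_co3 hg h h1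
    have h2 := surv 1 c_e8_co3 d_e8_co3 (by norm_num) hq hC hd hB
    exact absurd h2 List.not_mem_nil
  · obtain ⟨hB, hd⟩ := le_mcl hg h h1
    have h2 := surv 1 c_e8_mcl d_e8_mcl (by norm_num) hq hC hd hB
    exact absurd h2 List.not_mem_nil
  · obtain ⟨hB, hd⟩ := le_hs hg h h1
    have h2 := surv 1 c_e8_hs d_e8_hs (by norm_num) hq hC hd hB
    exact absurd h2 List.not_mem_nil
  · obtain ⟨hB, hd⟩ := le_suz hg h h1
    have h2 := surv 1 c_e8_suz d_e8_suz (by norm_num) hq hC hd hB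
    exact absurd h2 List.not_mem_nil
  · obtain ⟨hB, hd⟩ := le_he hg h h1
    have h2 := surv 1 c_e8_he d_e8_he (by norm_num) hq hC hd hB
    exact absurd h2 List.not_mem_nil
  · obtain ⟨hB, hd⟩ := le_ru hg h h1
    have h2 := surv 1 c_e8_ru d_e8_ru (by norm_num) hq hC hd hB
    exact absurd h2 List.not_mem_nil
  · obtain ⟨hB, hd⟩ := le_on hg h h1
    have h2 := surv 1 c_e8_on d_e8_on (by norm_num) hq hC hd hB
    exact absurd h2 List.not_mem_nil
  · obtain ⟨hB, hd⟩ := le_ly hg h h1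
    have h2 := surv 1 c_e8_ly d_e8_ly (by norm_num) hq hC hd hB
    exact absurd h2 List.not_mem_nil
  · obtain ⟨hB, hd⟩ := le_fi22 hg h h1
    have h2 := surv 1 c_e8_fi22 d_e8_fi22 (by norm_num) hq hC hd hB
    exact absurd h2 List.not_mem_nil
  · obtain ⟨hB, hd⟩ := le_fi23 hg h h1
    have h2 := surv 1 c_e8_fi23 d_e8_fi23 (by norm_num) hq hC hd hB
    exact absurd h2 List.not_mem_nil
  · obtain ⟨hB, hd⟩ := le_fi24 hg h h1
    have h2 := surv 1 c_e8_fi24 d_e8_fi24 (by norm_num) hq hC hd hB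
    exact absurd h2 List.not_mem_nil
  · obtain ⟨hB, hd⟩ := le_hn hg h h1
    have h2 := surv 1 c_e8_hn d_e8_hn (by norm_num) hq hC hd hB
    exact absurd h2 List.not_mem_nil
  · obtain ⟨hB, hd⟩ := le_th hg h h1
    have h2 := surv 1 c_e8_th d_e8_th (by norm_num) hq hC hd hB
    simp only [List.mem_cons, List.not_mem_nil, or_false] at h2
    tauto
  · obtain ⟨hB, hd⟩ := le_b hg h h1
    have h2 := surv 1 c_e8_b d_e8_b (by norm_num) hq hC hd hB
    exact absurd h2 List.not_mem_nil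
  · obtain ⟨hB, hd⟩ := le_m hg h h1
    have h2 := surv 1 c_e8_m d_e8_m (by norm_num) hq hC hd hB
    exact absurd h2 List.not_mem_nil

/-- **the sporadic cell** -/
theorem spor_e8 (R : Rows) (hg : TwoGen.{0}) (F : Type) [Field F] [Fintype F]
    [IsSimpleGroup ↥(Lie.chevE8.group F)] : Spor ↥(Lie.chevE8.group F) := by
  intro H N T _ e h hT
  have hq : IsPrimePow (Fintype.card F) := Fintype.isPrimePow_card_of_field
  have hC : dn .e8 (Fintype.card F) * Nat.card ↥(Lie.chevE8.group F) = nm .e8 (Fintype.card F) := by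
    have h1 := OrdDiv.table.{0}.e8 F _ rfl
    simp only [dn, nm, one_mul]
    exact h1
  haveI : Finite ↥(Lie.chevE8.group F) := by
    apply Nat.finite_of_card_ne_zero
    intro h0
    have h1 := nm_mono .e8 hq.two_le
    rw [← hC, h0, mul_zero] at h1
    exact absurd h1 (by decide +kernel)
  rcases main_e8 hg h hT hq hC with ⟨h1, h2⟩
  · exact R.e8_2_Th F h1 H N T e h h2

end Cfsg.Agent.H805.EPX
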