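import Cfsg.Agent.H805.EPX.Data
import Cfsg.Agent.H805.EPX.Sieve2
import Cfsg.Agent.H805.EPX.Rows
import Cfsg.Agent.OrdDiv.Table

/-!
# S5745, sporadic socles in the family td4 (helper805)
-/

set_option autoImplicit false
set_option maxHeartbeats 4000000

namespace Cfsg.Agent.H805.EPX

open Subgroup Cfsg Cfsg.Agent.H284 Cfsg.Agent.H209.EPX Cfsg.Agent.H59.EP Cfsg.Agent.H419.EP Cfsg.Agent.H226.EX
  Cfsg.Agent.H542.EPX

theorem c_td4_m11 : chk .td4 7920 (2 ^ 49) [] 1 = true := by decide +kernel

theorem d_td4_m11 : 3 * 2 ^ 49 < nm .td4 (128 * 1) := by decide +kernel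

theorem c_td4_m12 : chk .td4 95040 (2 ^ 65) [] 1 = true := by decide +kernel

theorem d_td4_m12 : 3 * 2 ^ 65 < nm .td4 (128 * 1) := by decide +kernel

theorem c_td4_m22 : chk .td4 443520 (2 ^ 75) [] 1 = true := by decide +kernel

theorem d_td4_m22 : 3 * 2 ^ 75 < nm .td4 (128 * 1) := by decide +kernel

theorem c_td4_m23 : chk .td4 10200960 (2 ^ 97) [] 1 = true := by decide +kernel

theorem d_td4_m23 : 3 * 2 ^ 97 < nm .td4 (128 * 1) := by decide +kernel

theorem c_td4_m24 : chk .td4 244823040 (2 ^ 120) [] 1 = true := by decide +kernel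

theorem d_td4_m24 : 3 * 2 ^ 120 < nm .td4 (128 * 1) := by decide +kernel

theorem c_td4_j1 : chk .td4 175560 (2 ^ 68) [] 1 = true := by decide +kernel

theorem d_td4_j1 : 3 * 2 ^ 68 < nm .td4 (128 * 1) := by decide +kernel

theorem c_td4_j2 : chk .td4 604800 (2 ^ 77) [4] 1 = true := by decide +kernel

theorem d_td4_j2 : 3 * 2 ^ 77 < nm .td4 (128 * 1) := by decide +kernel

theorem c_td4_j3 : chk .td4 50232960 (2 ^ 108) [] 1 = true := by decide +kernel

theorem d_td4_j3 : 3 * 2 ^ 108 < nm .td4 (128 * 1) := by decide +kernel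

theorem c_td4_j4 : chk .td4 86775571046077562880 (2 ^ 322) [] 24 = true := by decide +kernel

theorem d_td4_j4 : 3 * 2 ^ 322 < nm .td4 (128 * 24) := by decide +kernel

theorem c_td4_co1 : chk .td4 4157776806543360000 (2 ^ 309) [] 18 = true := by decide +kernel

theorem d_td4_co1 : 3 * 2 ^ 309 < nm .td4 (128 * 18) := by decide +kernel

theorem c_td4_co2 : chk .td4 42305421312000 (2 ^ 228) [] 3 = true := by decide +kernel

theorem d_td4_co2 : 3 * 2 ^ 228 < nm .td4 (128 * 3) := by decide +kernel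

theorem c_td4_co3 : chk .td4 495766656000 (2 ^ 175) [] 1 = true := by decide +kernel

theorem d_td4_co3 : 3 * 2 ^ 175 < nm .td4 (128 * 1) := by decide +kernel

theorem c_td4_mcl : chk .td4 898128000 (2 ^ 129) [] 1 = true := by decide +kernel

theorem d_td4_mcl : 3 * 2 ^ 129 < nm .td4 (128 * 1) := by decide +kernel

theorem c_td4_hs : chk .td4 44352000 (2 ^ 107) [] 1 = true := by decide +kernel

theorem d_td4_hs : 3 * 2 ^ 107 < nm .td4 (128 * 1) := by decide +kernel

theorem c_td4_suz : chk .td4 448345497600 (2 ^ 174) [] 1 = true := by decide +kernel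

theorem d_td4_suz : 3 * 2 ^ 174 < nm .td4 (128 * 1) := by decide +kernel

theorem c_td4_he : chk .td4 4030387200 (2 ^ 140) [] 1 = true := by decide +kernel

theorem d_td4_he : 3 * 2 ^ 140 < nm .td4 (128 * 1) := by decide +kernel

theorem c_td4_ru : chk .td4 145926144000 (2 ^ 170) [] 1 = true := by decide +kernel

theorem d_td4_ru : 3 * 2 ^ 170 < nm .td4 (128 * 1) := by decide +kernel

theorem c_td4_on : chk .td4 460815505920 (2 ^ 174) [] 1 = true := by decide +kernel

theorem d_td4_on : 3 * 2 ^ 174 < nm .td4 (128 * 1) := by decide +kernel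

theorem c_td4_ly : chk .td4 51765179004000000 (2 ^ 258) [] 5 = true := by decide +kernel

theorem d_td4_ly : 3 * 2 ^ 258 < nm .td4 (128 * 5) := by decide +kernel

theorem c_td4_fi22 : chk .td4 64561751654400 (2 ^ 221) [] 2 = true := by decide +kernel

theorem d_td4_fi22 : 3 * 2 ^ 221 < nm .td4 (128 * 2) := by decide +kernel

theorem c_td4_fi23 : chk .td4 4089470473293004800 (2 ^ 289) [] 11 = true := by decide +kernel

theorem d_td4_fi23 : 3 * 2 ^ 289 < nm .td4 (128 * 11) := by decide +kernel

theorem c_td4_fi24 : chk .td4 1255205709190661721292800 (2 ^ 381) [] 102 = true := by decide +kernel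

theorem d_td4_fi24 : 3 * 2 ^ 381 < nm .td4 (128 * 102) := by decide +kernel

theorem c_td4_hn : chk .td4 273030912000000 (2 ^ 220) [] 2 = true := by decide +kernel

theorem d_td4_hn : 3 * 2 ^ 220 < nm .td4 (128 * 2) := by decide +kernel

theorem c_td4_th : chk .td4 90745943887872000 (2 ^ 262) [] 6 = true := by decide +kernel

theorem d_td4_th : 3 * 2 ^ 262 < nm .td4 (128 * 6) := by decide +kernel

theorem c_td4_b : chk2 (fun _ => false) .td4 4154781481226426191177580544000000 (2 ^ 778) 19 4 = true := by decide +kernel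

theorem d_td4_b : 3 * 2 ^ 778 < nm .td4 (2 ^ 19 * (128 * 4) - 1) := by decide +kernel

/-- the block `i` of the check for the Monster -/
def blkM (i : ℕ) : Bool :=
  allb (fun j => (cM (2 ^ 22 * (128 * i + j) + 1) || okq .td4 808017424794512875886459904961710757005754368000000000 (2 ^ 1092) [] (2 ^ 22 * (128 * i + j) + 1)) &&
      (cM (2 ^ 22 * (128 * i + j) - 1) || okq .td4 808017424794512875886459904961710757005754368000000000 (2 ^ 1092) [] (2 ^ 22 * (128 * i + j) - 1))) 128

theorem m_0 : allb (fun i => blkM (0 + i)) 67 = true := by decide +kernel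

theorem m_1 : allb (fun i => blkM (67 + i)) 67 = true := by decide +kernel

theorem m_2 : allb (fun i => blkM (134 + i)) 67 = true := by decide +kernel

theorem m_3 : allb (fun i => blkM (201 + i)) 67 = true := by decide +kernel

theorem m_4 : allb (fun i => blkM (268 + i)) 67 = true := by decide +kernel

theorem m_5 : allb (fun i => blkM (335 + i)) 67 = true := by decide +kernel

theorem m_6 : allb (fun i => blkM (402 + i)) 67 = true := by decide +kernel

theorem m_7 : allb (fun i => blkM (469 + i)) 67 = true := by decide +kernel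

theorem m_8 : allb (fun i => blkM (536 + i)) 67 = true := by decide +kernel

theorem m_9 : allb (fun i => blkM (603 + i)) 67 = true := by decide +kernel

theorem m_10 : allb (fun i => blkM (670 + i)) 67 = true := by decide +kernel

theorem m_11 : allb (fun i => blkM (737 + i)) 67 = true := by decide +kernel

theorem m_12 : allb (fun i => blkM (804 + i)) 67 = true := by decide +kernel

theorem m_13 : allb (fun i => blkM (871 + i)) 67 = true := by decide +kernel

theorem m_14 : allb (fun i => blkM (938 + i)) 67 = true := by decide +kernel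

theorem m_15 : allb (fun i => blkM (1005 + i)) 61 = true := by decide +kernel

theorem allb_of {p : ℕ → Bool} {k : ℕ} (h : ∀ i < k, p i = true) : allb p k = true := by
  induction k with
  | zero => rfl
  | succ k ih =>
    rw [allb, Bool.and_eq_true]
    exact ⟨h k (Nat.lt_succ_self k), ih fun i hi => h i (hi.trans (Nat.lt_succ_self k))⟩

theorem blk_of {a k : ℕ} (h : allb (fun i => blkM (a + i)) k = true) {i : ℕ} (h1 : a ≤ i) (h2 : i < a + k) :
    blkM i = true := by
  have := allb_iff h (i := i - a) (by omega)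
  rwa [Nat.add_sub_cancel' h1] at this

theorem m_all : allb blkM 1066 = true := by
  apply allb_of
  intro i hi
  rcases Nat.lt_or_ge i 67 with h0 | h0
  · exact blk_of m_0 (by omega) (by omega)
  rcases Nat.lt_or_ge i 134 with h1 | h1
  · exact blk_of m_1 (by omega) (by omega)
  rcases Nat.lt_or_ge i 201 with h2 | h2
  · exact blk_of m_2 (by omega) (by omega)
  rcases Nat.lt_or_ge i 268 with h3 | h3
  · exact blk_of m_3 (by omega) (by omega)
  rcases Nat.lt_or_ge i 335 with h4 | h4
  · exact blk_of m_4 (by omega) (by omega)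
  rcases Nat.lt_or_ge i 402 with h5 | h5
  · exact blk_of m_5 (by omega) (by omega)
  rcases Nat.lt_or_ge i 469 with h6 | h6
  · exact blk_of m_6 (by omega) (by omega)
  rcases Nat.lt_or_ge i 536 with h7 | h7
  · exact blk_of m_7 (by omega) (by omega)
  rcases Nat.lt_or_ge i 603 with h8 | h8
  · exact blk_of m_8 (by omega) (by omega)
  rcases Nat.lt_or_ge i 670 with h9 | h9
  · exact blk_of m_9 (by omega) (by omega)
  rcases Nat.lt_or_ge i 737 with h10 | h10
  · exact blk_of m_10 (by omega) (by omega)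
  rcases Nat.lt_or_ge i 804 with h11 | h11
  · exact blk_of m_11 (by omega) (by omega)
  rcases Nat.lt_or_ge i 871 with h12 | h12
  · exact blk_of m_12 (by omega) (by omega)
  rcases Nat.lt_or_ge i 938 with h13 | h13
  · exact blk_of m_13 (by omega) (by omega)
  rcases Nat.lt_or_ge i 1005 with h14 | h14
  · exact blk_of m_14 (by omega) (by omega)
  exact blk_of m_15 (by omega) (by omega)

theorem m_two : allb (fun i => okq .td4 808017424794512875886459904961710757005754368000000000 (2 ^ 1092) [] (2 ^ i)) 40 = true := by decide +kernel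

theorem c_td4_m : chk2 cM .td4 808017424794512875886459904961710757005754368000000000 (2 ^ 1092) 22 1066 = true := by
  rw [chk2, Bool.and_eq_true]
  exact ⟨m_two, m_all⟩

theorem d_td4_m : 3 * 2 ^ 1092 < nm .td4 (2 ^ 22 * (128 * 1066) - 1) := by decide +kernel

/-- the survivors of the sieve, for any group of the order of the family -/
theorem main_td4 (hg : TwoGen.{0}) {G : Type} [Group G] [Finite G] [IsSimpleGroup G] {H N : Subgroup G} {T : Type}
    [Group T] {e : N ≃* (Fin 1 → T)} (h : EPS H N e) (hT : IsSporadicGroup T) {q : ℕ} (hq : IsPrimePow q)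
    (hC : dn .td4 q * Nat.card G = nm .td4 q) : (q = 4 ∧ Spor.IsoJ2 T) := by
  rcases hT with h1 | h1 | h1 | h1 | h1 | h1 | h1 | h1 | h1 | h1 | h1 | h1 | h1 | h1 | h1 | h1 | h1 | h1 | h1 | h1 | h1 | h1 | h1 | h1 | h1 | h1
  · obtain ⟨hB, hd⟩ := le_m11 hg h h1
    have h2 := surv 1 c_td4_m11 d_td4_m11 (by norm_num) hq hC hd hB
    exact absurd h2 List.not_mem_nil
  · obtain ⟨hB, hd⟩ := le_m12 hg h h1
    have h2 := surv 1 c_td4_m12 d_td4_m12 (by norm_num) hq hC hd hB
    exact absurd h2 List.not_mem_nil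
  · obtain ⟨hB, hd⟩ := le_m22 hg h h1
    have h2 := surv 1 c_td4_m22 d_td4_m22 (by norm_num) hq hC hd hB
    exact absurd h2 List.not_mem_nil
  · obtain ⟨hB, hd⟩ := le_m23 hg h h1
    have h2 := surv 1 c_td4_m23 d_td4_m23 (by norm_num) hq hC hd hB
    exact absurd h2 List.not_mem_nil
  · obtain ⟨hB, hd⟩ := le_m24 hg h h1
    have h2 := surv 1 c_td4_m24 d_td4_m24 (by norm_num) hq hC hd hB
    exact absurd h2 List.not_mem_nil
  · obtain ⟨hB, hd⟩ := le_j1 hg h h1
    have h2 := surv 1 c_td4_j1 d_td4_j1 (by norm_num) hq hC hd hB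
    exact absurd h2 List.not_mem_nil
  · obtain ⟨hB, hd⟩ := le_j2 hg h h1
    have h2 := surv 1 c_td4_j2 d_td4_j2 (by norm_num) hq hC hd hB
    simp only [List.mem_cons, List.not_mem_nil, or_false] at h2
    tauto
  · obtain ⟨hB, hd⟩ := le_j3 hg h h1
    have h2 := surv 1 c_td4_j3 d_td4_j3 (by norm_num) hq hC hd hB
    exact absurd h2 List.not_mem_nil
  · obtain ⟨hB, hd⟩ := le_j4 hg h h1
    have h2 := surv 24 c_td4_j4 d_td4_j4 (by norm_num) hq hC hd hB
    exact absurd h2 List.not_mem_nil
  · obtain ⟨hB, hd⟩ := le_co1 hg h h1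
    have h2 := surv 18 c_td4_co1 d_td4_co1 (by norm_num) hq hC hd hB
    exact absurd h2 List.not_mem_nil
  · obtain ⟨hB, hd⟩ := le_co2 hg h h1
    have h2 := surv 3 c_td4_co2 d_td4_co2 (by norm_num) hq hC hd hB
    exact absurd h2 List.not_mem_nil
  · obtain ⟨hB, hd⟩ := le_co3 hg h h1
    have h2 := surv 1 c_td4_co3 d_td4_co3 (by norm_num) hq hC hd hB
    exact absurd h2 List.not_mem_nil
  · obtain ⟨hB, hd⟩ := le_mcl hg h h1
    have h2 := surv 1 c_td4_mcl d_td4_mcl (by norm_num) hq hC hd hB
    exact absurd h2 List.not_mem_nil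
  · obtain ⟨hB, hd⟩ := le_hs hg h h1
    have h2 := surv 1 c_td4_hs d_td4_hs (by norm_num) hq hC hd hB
    exact absurd h2 List.not_mem_nil
  · obtain ⟨hB, hd⟩ := le_suz hg h h1
    have h2 := surv 1 c_td4_suz d_td4_suz (by norm_num) hq hC hd hB
    exact absurd h2 List.not_mem_nil
  · obtain ⟨hB, hd⟩ := le_he hg h h1
    have h2 := surv 1 c_td4_he d_td4_he (by norm_num) hq hC hd hB
    exact absurd h2 List.not_mem_nil
  · obtain ⟨hB, hd⟩ := le_ru hg h h1
    have h2 := surv 1 c_td4_ru d_td4_ru (by norm_num) hq hC hd hB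
    exact absurd h2 List.not_mem_nil
  · obtain ⟨hB, hd⟩ := le_on hg h h1
    have h2 := surv 1 c_td4_on d_td4_on (by norm_num) hq hC hd hB
    exact absurd h2 List.not_mem_nil
  · obtain ⟨hB, hd⟩ := le_ly hg h h1
    have h2 := surv 5 c_td4_ly d_td4_ly (by norm_num) hq hC hd hB
    exact absurd h2 List.not_mem_nil
  · obtain ⟨hB, hd⟩ := le_fi22 hg h h1
    have h2 := surv 2 c_td4_fi22 d_td4_fi22 (by norm_num) hq hC hd hB
    exact absurd h2 List.not_mem_nil
  · obtain ⟨hB, hd⟩ := le_fi23 hg h h1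
    have h2 := surv 11 c_td4_fi23 d_td4_fi23 (by norm_num) hq hC hd hB
    exact absurd h2 List.not_mem_nil
  · obtain ⟨hB, hd⟩ := le_fi24 hg h h1
    have h2 := surv 102 c_td4_fi24 d_td4_fi24 (by norm_num) hq hC hd hB
    exact absurd h2 List.not_mem_nil
  · obtain ⟨hB, hd⟩ := le_hn hg h h1
    have h2 := surv 2 c_td4_hn d_td4_hn (by norm_num) hq hC hd hB
    exact absurd h2 List.not_mem_nil
  · obtain ⟨hB, hd⟩ := le_th hg h h1
    have h2 := surv 6 c_td4_th d_td4_th (by norm_num) hq hC hd hB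
    exact absurd h2 List.not_mem_nil
  · obtain ⟨hB, hd⟩ := le_b hg h h1
    exfalso
    refine surv2 18 4 c_td4_b d_td4_b (by norm_num) ?_ hq (fun _ => rfl) hC hd hB
    intro q ho hdv
    exact (pow_dvd_pow 2 (by norm_num)).trans (td4_odd (e := 20) ho (Dvd.dvd.trans (by norm_num) hdv))
  · obtain ⟨hB, hd⟩ := le_m hg h h1
    exfalso
    refine surv2 21 1066 c_td4_m d_td4_m (by norm_num) ?_ hq
      (fun h3 => cM_false hq.one_lt.le (Dvd.dvd.trans (by norm_num) h3)) hC hd hB
    intro q ho hdv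
    exact (pow_dvd_pow 2 (by norm_num)).trans (td4_odd (e := 23) ho (Dvd.dvd.trans (by norm_num) hdv))

/-- **the sporadic cell** -/
theorem spor_td4 (R : Rows) (hg : TwoGen.{0}) (K : Type) [Field K] [Fintype K] (q : ℕ)
    [IsSimpleGroup ↥(Lie.twistedD4 K q)] (hq : IsPrimePow q) (hK : Fintype.card K = q ^ 3) :
    Spor ↥(Lie.twistedD4 K q) := by
  intro H N T _ e h hT
  have hC : dn .td4 q * Nat.card ↥(Lie.twistedD4 K q) = nm .td4 q := by
    have h1 := OrdDiv.table.{0}.td4 K q hq hK
    simp only [dn, nm, one_mul]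
    exact h1
  haveI : Finite ↥(Lie.twistedD4 K q) := by
    apply Nat.finite_of_card_ne_zero
    intro h0
    have h1 := nm_mono .td4 hq.two_le
    rw [← hC, h0, mul_zero] at h1
    exact absurd h1 (by decide +kernel)
  obtain ⟨rfl, h2⟩ := main_td4 hg h hT hq hC
  exact R.td4_4_J2 K hK H N T e h h2

end Cfsg.Agent.H805.EPX
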