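import Cfsg.Agent.H226.EX.Glue
import Cfsg.Agent.H59.EP.UBGen
import Cfsg.Agent.H805.EPT.SporUB
import Cfsg.Agent.H498.SporOut
import Cfsg.Agent.H123.SporSimple

/-!
# S5745, sporadic socles: `|G| ≤ bnd` and `|T| ∣ |G|` (helper805)
-/

set_option autoImplicit false

namespace Cfsg.Agent.H805.EPX

open Subgroup Cfsg Cfsg.Agent.H284 Cfsg.Agent.H209.EPX Cfsg.Agent.H59.EP Cfsg.Agent.H419.EP Cfsg.Agent.H226.EX

/-- the bound -/
def bnd (l : List (ℕ × ℕ)) (N : ℕ) : ℕ :=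
  N * (1 + ((l.map fun x => gal x.1 x.2).sum * (N / 6) + N ^ 2 / 60 + N ^ 3 / 12744000) * (2 * (N / 6)))

variable {G : Type} [Group G] [Finite G] [IsSimpleGroup G] {H N : Subgroup G} {T : Type} [Group T]
  {e : N ≃* (Fin 1 → T)}

/-- the upper bound for `|G|` -/
theorem card_le (hg : TwoGen.{0}) (h : EPS H N e) (l : List (ℕ × ℕ)) (h1 : ∀ x ∈ l, x.1.Prime ∧ 0 < x.2)
    (h2 : (l.map Prod.fst).Nodup) {M : ℕ} (hN : (l.map fun x => x.1 ^ x.2).prod = M) (hc : Nat.card H ∣ M)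
    (hB : M < 60 ^ 61) : Nat.card G ≤ bnd l M := by
  have hN0 : 0 < M := by
    rw [← hN]
    apply Nat.pos_of_ne_zero
    apply List.prod_ne_zero
    intro h0
    obtain ⟨x, hx, e⟩ := List.mem_map.1 h0
    exact (pow_ne_zero _ (h1 x hx).1.ne_zero) e
  have h3 := EPT.ncard_le_gen_dvd (ept_of_eps h) hg (hab_of_eps h) l h1 h2 (hN ▸ hc) (hN ▸ hB)
  have h4 := index_le_of h3 (Cfsg.Agent.H173.EP.ub1 inferInstance (ept_of_eps h) (by norm_num)
    fun _ hx => EPT.six_le (ept_of_eps h) (hab_of_eps h) hx) le_rfl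
  rw [hN] at h4
  have h5 : Nat.card H ≤ M := Nat.le_of_dvd hN0 hc
  rw [← Subgroup.card_mul_index H, bnd]
  refine Nat.mul_le_mul h5 (h4.trans (Nat.add_le_add_left (Nat.mul_le_mul_left _ (Nat.mul_le_mul_left _ ?_)) 1))
  exact Nat.div_le_div_right h5

omit [IsSimpleGroup G] in
theorem finite_T (_ : EPS H N e) : Finite T := by
  have h1 : Finite (Fin 1 → T) := Finite.of_equiv N e.toEquiv
  exact Finite.of_injective (fun t : T => (fun _ => t : Fin 1 → T)) fun a b hab => congrFun hab 0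

omit [IsSimpleGroup G] in
theorem dvd_G (h : EPS H N e) : Nat.card T ∣ Nat.card G :=
  (dvd_card h).trans (Subgroup.card_subgroup_dvd_card H)

omit [IsSimpleGroup G] in
/-- `|H| = |T|` or `2 |T|` -/
theorem card_H (h : EPS H N e) (hT : IsSporadicGroup T) (h4 : Nat.card T % 4 = 0) :
    Nat.card H = Nat.card T ∨ Nat.card H = 2 * Nat.card T := by
  haveI := finite_T h
  refine EPT.cardA (hasSoc_of_eps h) h.simple ?_ (H498.SporOut.index_le_two hT)
  intro hp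
  have h1 : 2 ∣ Nat.card T := Nat.dvd_of_mod_eq_zero (by omega)
  rw [Nat.prime_dvd_prime_iff_eq Nat.prime_two hp] at h1
  omega

/-- **the bound for a sporadic `T`** -/
theorem spor_le (hg : TwoGen.{0}) (h : EPS H N e) (hT : IsSporadicGroup T) {n : ℕ} (hn : Nat.card T = n) (a : ℕ)
    (l : List (ℕ × ℕ)) (h4 : n % 4 = 0) (h1 : ∀ x ∈ l, x.1.Prime ∧ 0 < x.2) (h2 : (2 :: l.map Prod.fst).Nodup)
    (hM : 2 ^ a * (l.map fun x => x.1 ^ x.2).prod = n) (hB : 2 * n < 60 ^ 61) {B : ℕ}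
    (hb : bnd ((2, a + 1) :: l) (2 * n) ≤ B) : Nat.card G ≤ B ∧ n ∣ Nat.card G := by
  have hH : Nat.card H ∣ 2 * n := by
    rcases card_H h hT (by rw [hn]; exact h4) with h3 | h3
    · rw [h3, hn]; exact Dvd.intro_left _ rfl
    · rw [h3, hn]
  refine ⟨(card_le hg h ((2, a + 1) :: l) ?_ ?_ ?_ hH hB).trans hb, hn ▸ dvd_G h⟩
  · intro x hx
    rcases List.mem_cons.1 hx with rfl | hx
    · exact ⟨Nat.prime_two, by omega⟩
    · exact h1 x hx
  · rw [List.map_cons]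
    exact h2
  · rw [List.map_cons, List.prod_cons, ← hM, pow_succ]
    ring

end Cfsg.Agent.H805.EPX
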