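import Cfsg.Agent.H805.EPX.RowsOf
import Cfsg.Agent.H805.EPX.ThRow
import Cfsg.Agent.H805.EPX.FiRow
import Cfsg.Agent.H805.EPX.Spor_e8
import Cfsg.Agent.H805.EPX.Spor_e7
import Cfsg.Agent.H805.EPX.Spor_e6
import Cfsg.Agent.H805.EPX.Spor_te6
import Cfsg.Agent.H805.EPX.Spor_f4
import Cfsg.Agent.H805.EPX.Spor_td4

/-!
# S5745: the six sporadic cells `E₈, E₇, E₆, ²E₆, F₄, ³D₄`, complete (helper805)

`TwoGen` : `Cfsg.Agent.H59.EP.twoGen`.
-/

set_option autoImplicit false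

namespace Cfsg.Agent.H805.EPX.Main

open Cfsg.Agent.H59.EP Cfsg.Agent.H542.EPX

/-- the 19 rows -/
theorem rows : Rows := rows_of e8_2_Th e6_4_Fi22

variable (hg : TwoGen.{0})

include hg

theorem e8 (F : Type) [Field F] [Fintype F] [IsSimpleGroup ↥(Lie.chevE8.group F)] : Spor ↥(Lie.chevE8.group F) :=
  spor_e8 rows hg F

theorem e7 (F : Type) [Field F] [Fintype F] [IsSimpleGroup ↥(Lie.chevE7.group F)] : Spor ↥(Lie.chevE7.group F) :=
  spor_e7 rows hg F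

theorem e6 (F : Type) [Field F] [Fintype F] [IsSimpleGroup ↥(Lie.chevE6.group F)] : Spor ↥(Lie.chevE6.group F) :=
  spor_e6 rows hg F

theorem f4 (F : Type) [Field F] [Fintype F] [IsSimpleGroup ↥(Lie.chevF4.group F)] : Spor ↥(Lie.chevF4.group F) :=
  spor_f4 rows hg F

theorem te6 (K : Type) [Field K] [Fintype K] (q : ℕ) [IsSimpleGroup ↥(Lie.twistedE6 K q)] (hq : IsPrimePow q)
    (hK : Fintype.card K = q ^ 2) : Spor ↥(Lie.twistedE6 K q) :=
  spor_te6 rows hg K q hq hK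

theorem td4 (K : Type) [Field K] [Fintype K] (q : ℕ) [IsSimpleGroup ↥(Lie.twistedD4 K q)] (hq : IsPrimePow q)
    (hK : Fintype.card K = q ^ 3) : Spor ↥(Lie.twistedD4 K q) :=
  spor_td4 rows hg K q hq hK

end Cfsg.Agent.H805.EPX.Main
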