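import Cfsg.Agent.H805.EPX.Base
import Cfsg.Agent.NotCT.Orders

/-!
# S5745, sporadic socles: the 26 bounds (helper805)
-/

set_option autoImplicit false

namespace Cfsg.Agent.H805.EPX

open Subgroup Cfsg Cfsg.Agent.H284 Cfsg.Agent.H209.EPX Cfsg.Agent.H59.EP Cfsg.Agent.H419.EP Cfsg.Agent.H226.EX

variable {G : Type} [Group G] [Finite G] [IsSimpleGroup G] {H N : Subgroup G} {T : Type} [Group T]
  {e : N ≃* (Fin 1 → T)}

theorem le_m11 (hg : TwoGen.{0}) (h : EPS H N e) (hT : Spor.IsoM11 T) :
    Nat.card G ≤ 2 ^ 49 ∧ 7920 ∣ Nat.card G := by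
  have hs : IsSporadicGroup T := by unfold IsSporadicGroup; tauto
  exact spor_le hg h hs (NotCT.Orders.m11 hT) 4 [(3, 2), (5, 1), (11, 1)] (by norm_num)
    (by
      intro x hx
      simp only [List.mem_cons, List.not_mem_nil, or_false] at hx
      rcases hx with rfl | rfl | rfl <;> norm_num)
    (by decide) (by norm_num) (by norm_num) (by decide +kernel)

theorem le_m12 (hg : TwoGen.{0}) (h : EPS H N e) (hT : Spor.IsoM12 T) :
    Nat.card G ≤ 2 ^ 65 ∧ 95040 ∣ Nat.card G := by
  have hs : IsSporadicGroup T := by unfold IsSporadicGroup; tauto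
  exact spor_le hg h hs (NotCT.Orders.m12 hT) 6 [(3, 3), (5, 1), (11, 1)] (by norm_num)
    (by
      intro x hx
      simp only [List.mem_cons, List.not_mem_nil, or_false] at hx
      rcases hx with rfl | rfl | rfl <;> norm_num)
    (by decide) (by norm_num) (by norm_num) (by decide +kernel)

theorem le_j1 (hg : TwoGen.{0}) (h : EPS H N e) (hT : Spor.IsoJ1 T) :
    Nat.card G ≤ 2 ^ 68 ∧ 175560 ∣ Nat.card G := by
  have hs : IsSporadicGroup T := by unfold IsSporadicGroup; tauto
  exact spor_le hg h hs (NotCT.Orders.j1 hT) 3 [(3, 1), (5, 1), (7, 1), (11, 1), (19, 1)] (by norm_num)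
    (by
      intro x hx
      simp only [List.mem_cons, List.not_mem_nil, or_false] at hx
      rcases hx with rfl | rfl | rfl | rfl | rfl <;> norm_num)
    (by decide) (by norm_num) (by norm_num) (by decide +kernel)

theorem le_m22 (hg : TwoGen.{0}) (h : EPS H N e) (hT : Spor.IsoM22 T) :
    Nat.card G ≤ 2 ^ 75 ∧ 443520 ∣ Nat.card G := by
  have hs : IsSporadicGroup T := by unfold IsSporadicGroup; tauto
  exact spor_le hg h hs (NotCT.Orders.m22 hT) 7 [(3, 2), (5, 1), (7, 1), (11, 1)] (by norm_num)
    (by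
      intro x hx
      simp only [List.mem_cons, List.not_mem_nil, or_false] at hx
      rcases hx with rfl | rfl | rfl | rfl <;> norm_num)
    (by decide) (by norm_num) (by norm_num) (by decide +kernel)

theorem le_j2 (hg : TwoGen.{0}) (h : EPS H N e) (hT : Spor.IsoJ2 T) :
    Nat.card G ≤ 2 ^ 77 ∧ 604800 ∣ Nat.card G := by
  have hs : IsSporadicGroup T := by unfold IsSporadicGroup; tauto
  exact spor_le hg h hs (NotCT.Orders.j2 hT) 7 [(3, 3), (5, 2), (7, 1)] (by norm_num)
    (by
      intro x hx
      simp only [List.mem_cons, List.not_mem_nil, or_false] at hx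
      rcases hx with rfl | rfl | rfl <;> norm_num)
    (by decide) (by norm_num) (by norm_num) (by decide +kernel)

theorem le_m23 (hg : TwoGen.{0}) (h : EPS H N e) (hT : Spor.IsoM23 T) :
    Nat.card G ≤ 2 ^ 97 ∧ 10200960 ∣ Nat.card G := by
  have hs : IsSporadicGroup T := by unfold IsSporadicGroup; tauto
  exact spor_le hg h hs (NotCT.Orders.m23 hT) 7 [(3, 2), (5, 1), (7, 1), (11, 1), (23, 1)] (by norm_num)
    (by
      intro x hx
      simp only [List.mem_cons, List.not_mem_nil, or_false] at hx
      rcases hx with rfl | rfl | rfl | rfl | rfl <;> norm_num)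
    (by decide) (by norm_num) (by norm_num) (by decide +kernel)

theorem le_hs (hg : TwoGen.{0}) (h : EPS H N e) (hT : Spor.IsoHS T) :
    Nat.card G ≤ 2 ^ 107 ∧ 44352000 ∣ Nat.card G := by
  have hs : IsSporadicGroup T := by unfold IsSporadicGroup; tauto
  exact spor_le hg h hs (NotCT.Orders.hs hT) 9 [(3, 2), (5, 3), (7, 1), (11, 1)] (by norm_num)
    (by
      intro x hx
      simp only [List.mem_cons, List.not_mem_nil, or_false] at hx
      rcases hx with rfl | rfl | rfl | rfl <;> norm_num)
    (by decide) (by norm_num) (by norm_num) (by decide +kernel)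

theorem le_j3 (hg : TwoGen.{0}) (h : EPS H N e) (hT : Spor.IsoJ3 T) :
    Nat.card G ≤ 2 ^ 108 ∧ 50232960 ∣ Nat.card G := by
  have hs : IsSporadicGroup T := by unfold IsSporadicGroup; tauto
  exact spor_le hg h hs (NotCT.Orders.j3 hT) 7 [(3, 5), (5, 1), (17, 1), (19, 1)] (by norm_num)
    (by
      intro x hx
      simp only [List.mem_cons, List.not_mem_nil, or_false] at hx
      rcases hx with rfl | rfl | rfl | rfl <;> norm_num)
    (by decide) (by norm_num) (by norm_num) (by decide +kernel)

theorem le_m24 (hg : TwoGen.{0}) (h : EPS H N e) (hT : Spor.IsoM24 T) :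
    Nat.card G ≤ 2 ^ 120 ∧ 244823040 ∣ Nat.card G := by
  have hs : IsSporadicGroup T := by unfold IsSporadicGroup; tauto
  exact spor_le hg h hs (NotCT.Orders.m24 hT) 10 [(3, 3), (5, 1), (7, 1), (11, 1), (23, 1)] (by norm_num)
    (by
      intro x hx
      simp only [List.mem_cons, List.not_mem_nil, or_false] at hx
      rcases hx with rfl | rfl | rfl | rfl | rfl <;> norm_num)
    (by decide) (by norm_num) (by norm_num) (by decide +kernel)

theorem le_mcl (hg : TwoGen.{0}) (h : EPS H N e) (hT : Spor.IsoMcL T) :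
    Nat.card G ≤ 2 ^ 129 ∧ 898128000 ∣ Nat.card G := by
  have hs : IsSporadicGroup T := by unfold IsSporadicGroup; tauto
  exact spor_le hg h hs (NotCT.Orders.mcl hT) 7 [(3, 6), (5, 3), (7, 1), (11, 1)] (by norm_num)
    (by
      intro x hx
      simp only [List.mem_cons, List.not_mem_nil, or_false] at hx
      rcases hx with rfl | rfl | rfl | rfl <;> norm_num)
    (by decide) (by norm_num) (by norm_num) (by decide +kernel)

theorem le_he (hg : TwoGen.{0}) (h : EPS H N e) (hT : Spor.IsoHe T) :
    Nat.card G ≤ 2 ^ 140 ∧ 4030387200 ∣ Nat.card G := by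
  have hs : IsSporadicGroup T := by unfold IsSporadicGroup; tauto
  exact spor_le hg h hs (NotCT.Orders.he hT) 10 [(3, 3), (5, 2), (7, 3), (17, 1)] (by norm_num)
    (by
      intro x hx
      simp only [List.mem_cons, List.not_mem_nil, or_false] at hx
      rcases hx with rfl | rfl | rfl | rfl <;> norm_num)
    (by decide) (by norm_num) (by norm_num) (by decide +kernel)

theorem le_ru (hg : TwoGen.{0}) (h : EPS H N e) (hT : Spor.IsoRu T) :
    Nat.card G ≤ 2 ^ 170 ∧ 145926144000 ∣ Nat.card G := by
  have hs : IsSporadicGroup T := by unfold IsSporadicGroup; tauto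
  exact spor_le hg h hs (NotCT.Orders.ru hT) 14 [(3, 3), (5, 3), (7, 1), (13, 1), (29, 1)] (by norm_num)
    (by
      intro x hx
      simp only [List.mem_cons, List.not_mem_nil, or_false] at hx
      rcases hx with rfl | rfl | rfl | rfl | rfl <;> norm_num)
    (by decide) (by norm_num) (by norm_num) (by decide +kernel)

theorem le_suz (hg : TwoGen.{0}) (h : EPS H N e) (hT : Spor.IsoSuz T) :
    Nat.card G ≤ 2 ^ 174 ∧ 448345497600 ∣ Nat.card G := by
  have hs : IsSporadicGroup T := by unfold IsSporadicGroup; tauto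
  exact spor_le hg h hs (NotCT.Orders.suz hT) 13 [(3, 7), (5, 2), (7, 1), (11, 1), (13, 1)] (by norm_num)
    (by
      intro x hx
      simp only [List.mem_cons, List.not_mem_nil, or_false] at hx
      rcases hx with rfl | rfl | rfl | rfl | rfl <;> norm_num)
    (by decide) (by norm_num) (by norm_num) (by decide +kernel)

theorem le_on (hg : TwoGen.{0}) (h : EPS H N e) (hT : Spor.IsoON T) :
    Nat.card G ≤ 2 ^ 174 ∧ 460815505920 ∣ Nat.card G := by
  have hs : IsSporadicGroup T := by unfold IsSporadicGroup; tauto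
  exact spor_le hg h hs (NotCT.Orders.on hT) 9 [(3, 4), (5, 1), (7, 3), (11, 1), (19, 1), (31, 1)] (by norm_num)
    (by
      intro x hx
      simp only [List.mem_cons, List.not_mem_nil, or_false] at hx
      rcases hx with rfl | rfl | rfl | rfl | rfl | rfl <;> norm_num)
    (by decide) (by norm_num) (by norm_num) (by decide +kernel)

theorem le_co3 (hg : TwoGen.{0}) (h : EPS H N e) (hT : Spor.IsoCo3 T) :
    Nat.card G ≤ 2 ^ 175 ∧ 495766656000 ∣ Nat.card G := by
  have hs : IsSporadicGroup T := by unfold IsSporadicGroup; tauto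
  exact spor_le hg h hs (NotCT.Orders.co3 hT) 10 [(3, 7), (5, 3), (7, 1), (11, 1), (23, 1)] (by norm_num)
    (by
      intro x hx
      simp only [List.mem_cons, List.not_mem_nil, or_false] at hx
      rcases hx with rfl | rfl | rfl | rfl | rfl <;> norm_num)
    (by decide) (by norm_num) (by norm_num) (by decide +kernel)

theorem le_co2 (hg : TwoGen.{0}) (h : EPS H N e) (hT : Spor.IsoCo2 T) :
    Nat.card G ≤ 2 ^ 228 ∧ 42305421312000 ∣ Nat.card G := by
  have hs : IsSporadicGroup T := by unfold IsSporadicGroup; tauto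
  exact spor_le hg h hs (NotCT.Orders.co2 hT) 18 [(3, 6), (5, 3), (7, 1), (11, 1), (23, 1)] (by norm_num)
    (by
      intro x hx
      simp only [List.mem_cons, List.not_mem_nil, or_false] at hx
      rcases hx with rfl | rfl | rfl | rfl | rfl <;> norm_num)
    (by decide) (by norm_num) (by norm_num) (by decide +kernel)

theorem le_fi22 (hg : TwoGen.{0}) (h : EPS H N e) (hT : Spor.IsoFi22 T) :
    Nat.card G ≤ 2 ^ 221 ∧ 64561751654400 ∣ Nat.card G := by
  have hs : IsSporadicGroup T := by unfold IsSporadicGroup; tauto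
  exact spor_le hg h hs (NotCT.Orders.fi22 hT) 17 [(3, 9), (5, 2), (7, 1), (11, 1), (13, 1)] (by norm_num)
    (by
      intro x hx
      simp only [List.mem_cons, List.not_mem_nil, or_false] at hx
      rcases hx with rfl | rfl | rfl | rfl | rfl <;> norm_num)
    (by decide) (by norm_num) (by norm_num) (by decide +kernel)

theorem le_hn (hg : TwoGen.{0}) (h : EPS H N e) (hT : Spor.IsoHN T) :
    Nat.card G ≤ 2 ^ 220 ∧ 273030912000000 ∣ Nat.card G := by
  have hs : IsSporadicGroup T := by unfold IsSporadicGroup; tauto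
  exact spor_le hg h hs (NotCT.Orders.hn hT) 14 [(3, 6), (5, 6), (7, 1), (11, 1), (19, 1)] (by norm_num)
    (by
      intro x hx
      simp only [List.mem_cons, List.not_mem_nil, or_false] at hx
      rcases hx with rfl | rfl | rfl | rfl | rfl <;> norm_num)
    (by decide) (by norm_num) (by norm_num) (by decide +kernel)

theorem le_ly (hg : TwoGen.{0}) (h : EPS H N e) (hT : Spor.IsoLy T) :
    Nat.card G ≤ 2 ^ 258 ∧ 51765179004000000 ∣ Nat.card G := by
  have hs : IsSporadicGroup T := by unfold IsSporadicGroup; tauto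
  exact spor_le hg h hs (NotCT.Orders.ly hT) 8 [(3, 7), (5, 6), (7, 1), (11, 1), (31, 1), (37, 1), (67, 1)] (by norm_num)
    (by
      intro x hx
      simp only [List.mem_cons, List.not_mem_nil, or_false] at hx
      rcases hx with rfl | rfl | rfl | rfl | rfl | rfl | rfl <;> norm_num)
    (by decide) (by norm_num) (by norm_num) (by decide +kernel)

theorem le_th (hg : TwoGen.{0}) (h : EPS H N e) (hT : Spor.IsoTh T) :
    Nat.card G ≤ 2 ^ 262 ∧ 90745943887872000 ∣ Nat.card G := by
  have hs : IsSporadicGroup T := by unfold IsSporadicGroup; tauto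
  exact spor_le hg h hs (NotCT.Orders.th hT) 15 [(3, 10), (5, 3), (7, 2), (13, 1), (19, 1), (31, 1)] (by norm_num)
    (by
      intro x hx
      simp only [List.mem_cons, List.not_mem_nil, or_false] at hx
      rcases hx with rfl | rfl | rfl | rfl | rfl | rfl <;> norm_num)
    (by decide) (by norm_num) (by norm_num) (by decide +kernel)

theorem le_fi23 (hg : TwoGen.{0}) (h : EPS H N e) (hT : Spor.IsoFi23 T) :
    Nat.card G ≤ 2 ^ 289 ∧ 4089470473293004800 ∣ Nat.card G := by
  have hs : IsSporadicGroup T := by unfold IsSporadicGroup; tauto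
  exact spor_le hg h hs (NotCT.Orders.fi23 hT) 18 [(3, 13), (5, 2), (7, 1), (11, 1), (13, 1), (17, 1), (23, 1)] (by norm_num)
    (by
      intro x hx
      simp only [List.mem_cons, List.not_mem_nil, or_false] at hx
      rcases hx with rfl | rfl | rfl | rfl | rfl | rfl | rfl <;> norm_num)
    (by decide) (by norm_num) (by norm_num) (by decide +kernel)

theorem le_co1 (hg : TwoGen.{0}) (h : EPS H N e) (hT : Spor.IsoCo1 T) :
    Nat.card G ≤ 2 ^ 309 ∧ 4157776806543360000 ∣ Nat.card G := by
  have hs : IsSporadicGroup T := by unfold IsSporadicGroup; tauto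
  exact spor_le hg h hs (NotCT.Orders.co1 hT) 21 [(3, 9), (5, 4), (7, 2), (11, 1), (13, 1), (23, 1)] (by norm_num)
    (by
      intro x hx
      simp only [List.mem_cons, List.not_mem_nil, or_false] at hx
      rcases hx with rfl | rfl | rfl | rfl | rfl | rfl <;> norm_num)
    (by decide) (by norm_num) (by norm_num) (by decide +kernel)

theorem le_j4 (hg : TwoGen.{0}) (h : EPS H N e) (hT : Spor.IsoJ4 T) :
    Nat.card G ≤ 2 ^ 322 ∧ 86775571046077562880 ∣ Nat.card G := by
  have hs : IsSporadicGroup T := by unfold IsSporadicGroup; tauto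
  exact spor_le hg h hs (NotCT.Orders.j4 hT) 21 [(3, 3), (5, 1), (7, 1), (11, 3), (23, 1), (29, 1), (31, 1), (37, 1), (43, 1)] (by norm_num)
    (by
      intro x hx
      simp only [List.mem_cons, List.not_mem_nil, or_false] at hx
      rcases hx with rfl | rfl | rfl | rfl | rfl | rfl | rfl | rfl | rfl <;> norm_num)
    (by decide) (by norm_num) (by norm_num) (by decide +kernel)

theorem le_fi24 (hg : TwoGen.{0}) (h : EPS H N e) (hT : Spor.IsoFi24' T) :
    Nat.card G ≤ 2 ^ 381 ∧ 1255205709190661721292800 ∣ Nat.card G := by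
  have hs : IsSporadicGroup T := by unfold IsSporadicGroup; tauto
  exact spor_le hg h hs (NotCT.Orders.fi24 hT) 21 [(3, 16), (5, 2), (7, 3), (11, 1), (13, 1), (17, 1), (23, 1), (29, 1)] (by norm_num)
    (by
      intro x hx
      simp only [List.mem_cons, List.not_mem_nil, or_false] at hx
      rcases hx with rfl | rfl | rfl | rfl | rfl | rfl | rfl | rfl <;> norm_num)
    (by decide) (by norm_num) (by norm_num) (by decide +kernel)

theorem le_b (hg : TwoGen.{0}) (h : EPS H N e) (hT : Spor.IsoB T) :
    Nat.card G ≤ 2 ^ 778 ∧ 4154781481226426191177580544000000 ∣ Nat.card G := by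
  have hs : IsSporadicGroup T := by unfold IsSporadicGroup; tauto
  exact spor_le hg h hs (NotCT.Orders.b hT) 41 [(3, 13), (5, 6), (7, 2), (11, 1), (13, 1), (17, 1), (19, 1), (23, 1), (31, 1), (47, 1)] (by norm_num)
    (by
      intro x hx
      simp only [List.mem_cons, List.not_mem_nil, or_false] at hx
      rcases hx with rfl | rfl | rfl | rfl | rfl | rfl | rfl | rfl | rfl | rfl <;> norm_num)
    (by decide) (by norm_num) (by norm_num) (by decide +kernel)

theorem le_m (hg : TwoGen.{0}) (h : EPS H N e) (hT : Spor.IsoM T) :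
    Nat.card G ≤ 2 ^ 1092 ∧ 808017424794512875886459904961710757005754368000000000 ∣ Nat.card G := by
  have hs : IsSporadicGroup T := by unfold IsSporadicGroup; tauto
  exact spor_le hg h hs (NotCT.Orders.m hT) 46 [(3, 20), (5, 9), (7, 6), (11, 2), (13, 3), (17, 1), (19, 1), (23, 1), (29, 1), (31, 1), (41, 1), (47, 1), (59, 1), (71, 1)] (by norm_num)
    (by
      intro x hx
      simp only [List.mem_cons, List.not_mem_nil, or_false] at hx
      rcases hx with rfl | rfl | rfl | rfl | rfl | rfl | rfl | rfl | rfl | rfl | rfl | rfl | rfl | rfl <;> norm_num)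
    (by decide) (by norm_num) (by norm_num) (by decide +kernel)

end Cfsg.Agent.H805.EPX
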