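import Cfsg.Agent.H805.EPX.Rows
import Cfsg.Agent.H424.EPX.JTwo
import Cfsg.Agent.H373.TS.TDFour

/-!
# S5745: the row `J₂` in `³D₄(4)` (class bounds of helper373, row of helper424; glue helper805)
-/

set_option autoImplicit false

namespace Cfsg.Agent.H805.EPX

open Subgroup

theorem td4_4_J2 (K : Type) [Field K] [Fintype K] [IsSimpleGroup ↥(Lie.twistedD4 K 4)] (hK : Fintype.card K = 64) :
    NoRow (fun T _ => Spor.IsoJ2 T) ↥(Lie.twistedD4 K 4) := by
  intro H N T _ e h hT
  have hc := H373.TS.D4.card_G hK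
  haveI : Finite ↥(Lie.twistedD4 K 4) := Nat.finite_of_card_ne_zero (by rw [hc]; norm_num)
  refine H424.EPX.j2_false h hT ?_ (by rw [hc]; norm_num)
  intro x hx
  simp only [Finset.mem_insert, Finset.mem_singleton] at hx
  rcases hx with hx | hx | hx
  · exact (H373.TS.D4.cent_three hK hx).trans (by norm_num)
  · exact (H373.TS.D4.cent_five hK hx).trans (by norm_num)
  · exact (H373.TS.D4.cent_seven hK hx).trans (by norm_num)

end Cfsg.Agent.H805.EPX
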