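import Cfsg.Agent.H805.EPX.Rows
import Cfsg.Agent.H602.EPX.SpRows
import Cfsg.Agent.H833.EPX.Seven
import Cfsg.Agent.H878.EPX.E7FiRow
import Cfsg.Agent.H373.TS.ESevenThree
import Cfsg.Agent.H357.EP.V27
import Cfsg.Agent.H807.EPX.SuzE6
import Cfsg.Agent.H14.EPX.HN
import Cfsg.Agent.H775.EPF.TE6
import Cfsg.Agent.H805.EPX.TdJ2

/-!
# S5745, sporadic socles: `Rows` from the last two fields (helper805)

`e7_3_Fi22` : helper878 + helper373; `e7_2_*`, `f4_2_J2`, `te6_2_{J2,J3,Suz}` : helper602; `He`, `ON` : helper833;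
`E₆(3)` : helper357; `E₆(4)`, `Suz` : helper807; `HN` : helper14; `²E₆(2)`, `Fi₂₂` : helper775;
`J₂` in `³D₄(4)` : helper424 + helper373.
-/

set_option autoImplicit false

namespace Cfsg.Agent.H805.EPX

theorem rows_of
    (e8_2_Th : ∀ (F : Type) [Field F] [Fintype F] [IsSimpleGroup ↥(Lie.chevE8.group F)], Fintype.card F = 2 →
      NoRow (fun T _ => Spor.IsoTh T) ↥(Lie.chevE8.group F))
    (e6_4_Fi22 : ∀ (F : Type) [Field F] [Fintype F] [IsSimpleGroup ↥(Lie.chevE6.group F)], Fintype.card F = 4 →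
      NoRow (fun T _ => Spor.IsoFi22 T) ↥(Lie.chevE6.group F)) : Rows where
  e8_2_Th := e8_2_Th
  e7_2_He F _ _ _ hF := H833.EPX.e7_2_He F hF
  e7_2_ON F _ _ _ hF := H833.EPX.e7_2_ON F hF
  e7_2_Suz := H602.EPX.SpRows.e7_2_Suz
  e7_2_Fi22 := H602.EPX.SpRows.e7_2_Fi22
  e7_3_Fi22 := H878.EPX.e7_3_Fi22_of fun F _ _ hF x =>
    ⟨fun h => (Nat.pow_le_pow_right (by norm_num) (by norm_num)).trans ((H373.TS.cG_ge hF x).1 h),
      (H373.TS.cG_ge hF x).2⟩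
  e6_2_He F _ _ _ hF := H833.EPX.e6_2_He F hF
  e6_3_Suz := H357.EP.row_suz
  e6_3_Fi22 := H357.EP.row_fi22
  e6_4_Suz := H807.EPX.e6_4_Suz
  e6_4_ON F _ _ _ hF := H833.EPX.e6_4_ON F hF
  e6_4_Fi22 := e6_4_Fi22
  e6_5_HN := H14.EPX.e6_5_HN
  f4_2_J2 := H602.EPX.SpRows.f4_2_J2
  te6_2_J2 := H602.EPX.SpRows.te6_2_J2
  te6_2_J3 := H602.EPX.SpRows.te6_2_J3
  te6_2_Suz := H602.EPX.SpRows.te6_2_Suz
  te6_2_Fi22 K _ _ _ hK H N T _ e h hT := H775.EPF.te6_fi22 K hK H N T e h hT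
  td4_4_J2 := td4_4_J2

end Cfsg.Agent.H805.EPX
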