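import Cfsg.Agent.H775.EPS.SuzFin
import Cfsg.Agent.H805.EPX.Base
import Cfsg.Agent.H805.EPX.Rows
import Cfsg.Agent.H805.EPX.Sieve
import Cfsg.Agent.OrdDiv.Table

/-!
# S5745, sporadic socles: the rows `Suz` in `E₆(3)`, `E₆(4)`, `E₇(2)` by the bound `2 ^ 82` (helper805)
-/

set_option autoImplicit false

namespace Cfsg.Agent.H805.EPX

open Subgroup Cfsg Cfsg.Agent.H284 Cfsg.Agent.H209.EPX Cfsg.Agent.H226.EX

/-- the bound for `Suz` -/
theorem suz_le {G : Type} [Group G] [Finite G] [IsSimpleGroup G] {H N : Subgroup G} {T : Type} [Group T]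
    {e : N ≃* (Fin 1 → T)} (h : EPS H N e) (hT : Spor.IsoSuz T) : Nat.card G ≤ 2 * 448345497600 * 2 ^ 82 := by
  have hs : IsSporadicGroup T := by unfold IsSporadicGroup; tauto
  have hc := NotCT.Orders.suz hT
  have h1 := H775.EPS.index_le_suz inferInstance (ept_of_eps h) hT (hasSoc_of_eps h)
  have h2 : Nat.card H ≤ 2 * 448345497600 := by
    rcases card_H h hs (by rw [hc]) with h3 | h3 <;> omega
  rw [← Subgroup.card_mul_index H]
  exact Nat.mul_le_mul h2 h1

theorem e6_3_Suz (F : Type) [Field F] [Fintype F] [IsSimpleGroup ↥(Lie.chevE6.group F)] (hF : Fintype.card F = 3) :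
    NoRow (fun T _ => Spor.IsoSuz T) ↥(Lie.chevE6.group F) := by
  intro H N T _ e h hT
  have hc := OrdDiv.table.{0}.e6 F 3 hF
  rw [show Nat.gcd 3 (3 - 1) = 1 by decide, one_mul] at hc
  haveI : Finite ↥(Lie.chevE6.group F) := Nat.finite_of_card_ne_zero (by rw [hc]; norm_num)
  have h1 := suz_le h hT
  rw [hc] at h1
  exact absurd h1 (by norm_num)

theorem e6_4_Suz (F : Type) [Field F] [Fintype F] [IsSimpleGroup ↥(Lie.chevE6.group F)] (hF : Fintype.card F = 4) :
    NoRow (fun T _ => Spor.IsoSuz T) ↥(Lie.chevE6.group F) := by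
  intro H N T _ e h hT
  have hc := OrdDiv.table.{0}.e6 F 4 hF
  rw [show Nat.gcd 3 (4 - 1) = 3 by decide] at hc
  haveI : Finite ↥(Lie.chevE6.group F) := Nat.finite_of_card_ne_zero (by
    intro h0
    rw [h0] at hc
    norm_num at hc)
  have h1 := suz_le h hT
  have h2 : 3 * Nat.card ↥(Lie.chevE6.group F) ≤ 3 * (2 * 448345497600 * 2 ^ 82) := Nat.mul_le_mul_left _ h1
  rw [hc] at h2
  exact absurd h2 (by norm_num)

theorem e7_2_Suz (F : Type) [Field F] [Fintype F] [IsSimpleGroup ↥(Lie.chevE7.group F)] (hF : Fintype.card F = 2) :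
    NoRow (fun T _ => Spor.IsoSuz T) ↥(Lie.chevE7.group F) := by
  intro H N T _ e h hT
  have hc := OrdDiv.table.{0}.e7 F 2 hF
  rw [show Nat.gcd 2 (2 - 1) = 1 by decide, one_mul] at hc
  haveI : Finite ↥(Lie.chevE7.group F) := Nat.finite_of_card_ne_zero (by rw [hc]; norm_num)
  have h1 := suz_le h hT
  rw [hc] at h1
  exact absurd h1 (by norm_num)

end Cfsg.Agent.H805.EPX
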